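import Groth.Agent.Sga2lef.H81.LocFree
import Groth.Agent.Sga2lef.H96.ModSysRec

/-!
# Formally locally free coherent modules are locally free near the closed subscheme

`exists_locFree_nhd`: if all the restrictions of the coherent module `F` to the thickenings `V(𝓘^(n+1))` are finite
locally free, then `F` is finite locally free on an open neighbourhood `U` of `V(𝓘)`, and the completion of `F` is
that of `ι_* (F|_U)`.
-/

set_option autoImplicit false
universe u

open CategoryTheory AlgebraicGeometry TopologicalSpace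

namespace Groth.Agent.Sga2lef.H81.LocFreeNhd

open Groth.Agent AlgebraicGeometry.Scheme.Modules
open Groth.Agent.Sga2lef.H96.Transp Groth.Agent.Sga2lef.H96.ModSysRec

variable {X Y Z : Scheme.{u}}

/-- Naturality of the transitivity isomorphism `τ^* g^* ≅ h^*`. -/
theorem qq_naturality (τ : Z ⟶ Y) (g : Y ⟶ X) (h : Z ⟶ X) (w : τ ≫ g = h) {M N : X.Modules}
    (φ : M ⟶ N) :
    (pullback τ).map ((pullback g).map φ) ≫ (qq τ g h w N).hom =
      (qq τ g h w M).hom ≫ (pullback h).map φ := by
  subst w
  have e1 : ∀ M : X.Modules, (qq τ g (τ ≫ g) rfl M).hom = (pullbackComp τ g).hom.app M := by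
    intro M
    simp only [qq, Iso.trans_hom, Iso.app_hom]
    exact Category.comp_id _
  rw [e1, e1]
  exact (pullbackComp τ g).hom.naturality φ

/-- The restriction of the unit `F ⟶ ι_* (F|_U)` to `U` is an isomorphism. -/
theorem isIso_restrict_unit (j : Y ⟶ X) [IsOpenImmersion j] (F : X.Modules) :
    IsIso ((restrictFunctor j).map ((restrictAdjunction j).unit.app F)) := by
  have h := (restrictAdjunction j).left_triangle_components F
  exact IsIso.of_isIso_fac_right h

/-- The pull-back of the unit `F ⟶ ι_* (F|_U)` along a morphism with image in `U` is an isomorphism. -/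
theorem isIso_pullback_unit (j : Y ⟶ X) [IsOpenImmersion j] (F : X.Modules) (k : Z ⟶ Y)
    (i : Z ⟶ X) (w : k ≫ j = i) :
    IsIso ((pullback i).map ((restrictAdjunction j).unit.app F)) := by
  have h1 : IsIso ((pullback j).map ((restrictAdjunction j).unit.app F)) := by
    have h2 := (restrictFunctorIsoPullback j).hom.naturality ((restrictAdjunction j).unit.app F)
    have h3 := isIso_restrict_unit j F
    have h4 : (pullback j).map ((restrictAdjunction j).unit.app F) =
        (restrictFunctorIsoPullback j).inv.app _ ≫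
          (restrictFunctor j).map ((restrictAdjunction j).unit.app F) ≫
            (restrictFunctorIsoPullback j).hom.app _ := by
      rw [h2, ← Category.assoc, Iso.inv_hom_id_app, Category.id_comp]
    rw [h4]
    infer_instance
  have h2 := qq_naturality k j i w ((restrictAdjunction j).unit.app F)
  have h3 : (pullback i).map ((restrictAdjunction j).unit.app F) =
      (qq k j i w _).inv ≫ (pullback k).map ((pullback j).map ((restrictAdjunction j).unit.app F)) ≫
        (qq k j i w _).hom := by
    rw [h2, ← Category.assoc, Iso.inv_hom_id, Category.id_comp]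
  rw [h3]
  infer_instance

/-- Isomorphisms of completions, in terms of `qq`. -/
theorem nonempty_cmOf_iso (𝓘 : X.IdealSheafData) {F G : X.Modules} (φ : F ⟶ G)
    (hφ : ∀ n : ℕ, IsIso ((pullback (FSch.completionToX X 𝓘 n)).map φ)) :
    Nonempty (cmOf 𝓘 F (fun n => qq ((FSch.completionAlong X 𝓘).ι n)
      (FSch.completionToX X 𝓘 (n + 1)) (FSch.completionToX X 𝓘 n) (ι_toX 𝓘 n) F) ≅
      cmOf 𝓘 G (fun n => qq ((FSch.completionAlong X 𝓘).ι n)
      (FSch.completionToX X 𝓘 (n + 1)) (FSch.completionToX X 𝓘 n) (ι_toX 𝓘 n) G)) := by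
  refine nonempty_iso_of_app (𝔐 := cmOf 𝓘 F (fun n => qq ((FSch.completionAlong X 𝓘).ι n)
      (FSch.completionToX X 𝓘 (n + 1)) (FSch.completionToX X 𝓘 n) (ι_toX 𝓘 n) F))
    (𝔑 := cmOf 𝓘 G (fun n => qq ((FSch.completionAlong X 𝓘).ι n)
      (FSch.completionToX X 𝓘 (n + 1)) (FSch.completionToX X 𝓘 n) (ι_toX 𝓘 n) G))
    (fun n => (pullback (FSch.completionToX X 𝓘 n)).map φ) hφ (fun n => ?_)
  exact qq_naturality ((FSch.completionAlong X 𝓘).ι n)
      (FSch.completionToX X 𝓘 (n + 1)) (FSch.completionToX X 𝓘 n) (ι_toX 𝓘 n) φ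

theorem nonempty_completionMod_iso (𝓘 : X.IdealSheafData) {F G : X.Modules} (φ : F ⟶ G)
    (hφ : ∀ n : ℕ, IsIso ((pullback (FSch.completionToX X 𝓘 n)).map φ)) :
    Nonempty (FSch.completionMod 𝓘 F ≅ FSch.completionMod 𝓘 G) := by
  rw [completionMod_eq 𝓘 F, completionMod_eq 𝓘 G]
  exact nonempty_cmOf_iso 𝓘 φ hφ

/-- The completion only depends on the restriction to a neighbourhood of the closed subscheme. -/
theorem nonempty_completion_iso (𝓘 : X.IdealSheafData) (F : X.Modules) (U : X.Opens)
    (hU : (𝓘.support : Set X) ⊆ (U : Set X)) :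
    Nonempty (FSch.completionMod 𝓘 ((Scheme.Modules.pushforward U.ι).obj (F.restrict U.ι)) ≅
      FSch.completionMod 𝓘 F) := by
  have hr : ∀ n : ℕ, Set.range (FSch.completionToX X 𝓘 n) ⊆ Set.range U.ι := by
    intro n
    have h1 : Set.range (𝓘 ^ (n + 1)).subschemeι ⊆ Set.range U.ι := by
      rw [Scheme.IdealSheafData.range_subschemeι, Scheme.IdealSheafData.support_pow_succ,
        Scheme.Opens.range_ι]
      exact hU
    exact h1
  have hiso : ∀ n : ℕ, IsIso ((pullback (FSch.completionToX X 𝓘 n)).map
      ((restrictAdjunction U.ι).unit.app F)) := fun n =>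
    isIso_pullback_unit U.ι F (IsOpenImmersion.lift U.ι (FSch.completionToX X 𝓘 n) (hr n)) _
      (IsOpenImmersion.lift_fac U.ι (FSch.completionToX X 𝓘 n) (hr n))
  exact (nonempty_completionMod_iso 𝓘 ((restrictAdjunction U.ι).unit.app F) hiso).map Iso.symm

/-- **Formally locally free coherent modules.** Let `F` be coherent on the locally Noetherian scheme `X` with
finite locally free restrictions to all the thickenings `V(𝓘^(n+1))`. Then `F` is finite locally free on an open
neighbourhood `U` of `V(𝓘)` and the completion of `F` along `𝓘` is the completion of `ι_* (F|_U)`. -/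
theorem exists_locFree_nhd [IsLocallyNoetherian X] (𝓘 : X.IdealSheafData) (F : X.Modules)
    (hF : Coh.IsCoh F)
    (h : ∀ n, FlatMod.IsFinLocFree ((Scheme.Modules.pullback (FSch.completionToX X 𝓘 n)).obj F)) :
    ∃ U : X.Opens, (𝓘.support : Set X) ⊆ (U : Set X) ∧ FlatMod.IsFinLocFree (F.restrict U.ι) ∧
      Nonempty (FSch.completionMod 𝓘 ((Scheme.Modules.pushforward U.ι).obj (F.restrict U.ι)) ≅
        FSch.completionMod 𝓘 F) := by
  obtain ⟨U, hU, hfree⟩ := LocFree.exists_nhd_of_free_stalk F hF (𝓘.support : Set X)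
    (fun x hx => LocFree.free_stalk 𝓘 F hF h x hx)
  exact ⟨U, hU, hfree, nonempty_completion_iso 𝓘 F U hU⟩

end Groth.Agent.Sga2lef.H81.LocFreeNhd
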