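import Mathlib.RingTheory.LocalRing.Module
import Mathlib.RingTheory.Filtration
import Mathlib.LinearAlgebra.Dimension.Free
import Mathlib.RingTheory.TensorProduct.Free

/-!
# Formal local freeness over a Noetherian local ring

A finite module `M` over a Noetherian local ring `R` such that `S ⊗ M` is free over quotients `S = R/J_n` of `R`
with `J_n ⊆ m^(n+1)` for all `n`, is free.
-/

set_option autoImplicit false
universe u v w

open scoped TensorProduct

namespace Groth.Agent.Sga2lef.H81.FreeAlg

variable {R : Type u} [CommRing R] [IsLocalRing R] {M : Type v} [AddCommGroup M] [Module R M]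

/-- Over a quotient `S` of the local ring `R`, the rank of the free module `S ⊗ M` is the dimension of the special
fibre of `M`. -/
theorem finrank_tensor (S : Type w) [CommRing S] [Algebra R S]
    (hs : Function.Surjective (algebraMap R S))
    (hk : RingHom.ker (algebraMap R S) ≤ IsLocalRing.maximalIdeal R) [Module.Free S (S ⊗[R] M)] :
    Module.finrank S (S ⊗[R] M) =
      Module.finrank (IsLocalRing.ResidueField R) (IsLocalRing.ResidueField R ⊗[R] M) := by
  have hz : ∀ a ∈ RingHom.ker (algebraMap R S), IsLocalRing.residue R a = 0 := fun a ha => by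
    rw [IsLocalRing.residue_eq_zero_iff]
    exact hk ha
  let g : S →+* IsLocalRing.ResidueField R :=
    (Ideal.Quotient.lift (RingHom.ker (algebraMap R S)) (IsLocalRing.residue R) hz).comp
      (RingHom.quotientKerEquivOfSurjective hs).symm.toRingHom
  have hg : ∀ r, g (algebraMap R S r) = algebraMap R (IsLocalRing.ResidueField R) r := by
    intro r
    have h1 : (RingHom.quotientKerEquivOfSurjective hs).symm (algebraMap R S r) =
        Ideal.Quotient.mk _ r := by
      rw [RingEquiv.symm_apply_eq]
      rfl
    change (Ideal.Quotient.lift (RingHom.ker (algebraMap R S)) (IsLocalRing.residue R) hz)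
      ((RingHom.quotientKerEquivOfSurjective hs).symm (algebraMap R S r)) = _
    rw [h1]
    rfl
  let _ : Algebra S (IsLocalRing.ResidueField R) := g.toAlgebra
  have : IsScalarTower R S (IsLocalRing.ResidueField R) :=
    IsScalarTower.of_algebraMap_eq fun r => (hg r).symm
  have : Nontrivial S := g.domain_nontrivial
  let e := TensorProduct.AlgebraTensorModule.cancelBaseChange R S (IsLocalRing.ResidueField R)
    (IsLocalRing.ResidueField R) M
  rw [← e.finrank_eq]
  exact (Module.finrank_baseChange (R := IsLocalRing.ResidueField R) (S := S) (M' := S ⊗[R] M)).symm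

theorem free_of_forall [IsNoetherianRing R] [Module.Finite R M]
    (h : ∀ n : ℕ, ∃ (S : Type w) (_ : CommRing S) (_ : Algebra R S),
      Function.Surjective (algebraMap R S) ∧
      RingHom.ker (algebraMap R S) ≤ IsLocalRing.maximalIdeal R ^ (n + 1) ∧
      Module.Free S (S ⊗[R] M)) : Module.Free R M := by
  classical
  let k := IsLocalRing.ResidueField R
  let b := Module.finBasis k (k ⊗[R] M)
  set r := Module.finrank k (k ⊗[R] M) with hr
  have hsurj : Function.Surjective (TensorProduct.mk R k M 1) :=
    TensorProduct.mk_surjective R M k Ideal.Quotient.mk_surjective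
  choose f hf using fun i => hsurj (b i)
  have hspan : Submodule.span R (Set.range f) = ⊤ :=
    IsLocalRing.span_eq_top_of_tmul_eq_basis f b hf
  let p : (Fin r → R) →ₗ[R] M := Fintype.linearCombination R f
  have hp : Function.Surjective p := by
    rw [← LinearMap.range_eq_top, ← hspan]
    exact Fintype.range_linearCombination R f
  have hinj : Function.Injective p := by
    rw [← LinearMap.ker_eq_bot, LinearMap.ker_eq_bot']
    intro v hv
    have key : ∀ (i : Fin r) (n : ℕ), v i ∈ IsLocalRing.maximalIdeal R ^ (n + 1) := by
      intro i n
      obtain ⟨S, _, _, hs, hk, hfree⟩ := h n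
      apply hk
      rw [RingHom.mem_ker]
      have hk' : RingHom.ker (algebraMap R S) ≤ IsLocalRing.maximalIdeal R :=
        hk.trans (Ideal.pow_le_self (by omega))
      have hS : Function.Surjective (p.baseChange S) := LinearMap.lTensor_surjective S hp
      have hfr : Module.finrank S (S ⊗[R] (Fin r → R)) ≤ Module.finrank S (S ⊗[R] M) := by
        rw [finrank_tensor S hs hk', finrank_tensor S hs hk', ← hr, Module.finrank_baseChange,
          Module.finrank_fin_fun]
      have hbij := OrzechProperty.bijective_of_surjective_of_finrank_le (p.baseChange S) hS hfr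
      have h0 : (1 : S) ⊗ₜ[R] v = 0 := by
        apply hbij.1
        rw [LinearMap.baseChange_tmul, hv, TensorProduct.tmul_zero, map_zero]
      have h1 := congrArg (TensorProduct.piScalarRight R S S (Fin r)) h0
      rw [map_zero] at h1
      have h2 := congrFun h1 i
      simpa [Algebra.smul_def] using h2
    funext i
    have h1 : v i ∈ ⨅ n : ℕ, IsLocalRing.maximalIdeal R ^ n := by
      rw [Submodule.mem_iInf]
      intro n
      exact Ideal.pow_le_pow_right (Nat.le_succ n) (key i n)
    rw [Ideal.iInf_pow_eq_bot_of_isLocalRing _ Ideal.IsPrime.ne_top'] at h1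
    exact h1
  exact Module.Free.of_equiv (LinearEquiv.ofBijective p ⟨hinj, hp⟩)

end Groth.Agent.Sga2lef.H81.FreeAlg
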