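import Groth.Agent.Sga2lef.H81.FreeAlg
import Groth.Agent.Divis.CartierStalk
import Groth.Agent.Fdesc.PullbackStalk
import Groth.Agent.Dcoh.StalkFF
import Groth.Agent.Divis.StalkMod
import Groth.Agent.Ega3B.LocFree
import Groth.Agent.Desc.FPSections
import Groth.Agent.Dcoh.FinLocFree
import Groth.Prelude.Def_FSch2

/-!
# A coherent module with finite locally free restrictions to all thickenings of `V(𝓘)` is finite locally free
near `V(𝓘)`
-/

set_option autoImplicit false
universe u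

open CategoryTheory CategoryTheory.Limits AlgebraicGeometry TopologicalSpace

namespace Groth.Agent.Sga2lef.H81.LocFree

open Groth.Agent

variable {X : Scheme.{u}}

/-- If the restrictions of the coherent module `F` to all the thickenings `V(𝓘^(n+1))` are finite locally free, the
stalks of `F` at the points of `V(𝓘)` are free. -/
theorem free_stalk [IsLocallyNoetherian X] (𝓘 : X.IdealSheafData) (F : X.Modules)
    (hF : Coh.IsCoh F)
    (h : ∀ n, FlatMod.IsFinLocFree ((Scheme.Modules.pullback (FSch.completionToX X 𝓘 n)).obj F))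
    (x : X) (hx : x ∈ 𝓘.support) : Module.Free (X.presheaf.stalk x) (F.presheaf.stalk x) := by
  have hfin := Divis.StalkMod.finite_stalk hF x
  refine FreeAlg.free_of_forall (R := X.presheaf.stalk x) (M := F.presheaf.stalk x) fun n => ?_
  have hx' : x ∈ (𝓘 ^ (n + 1)).support := by
    rw [Scheme.IdealSheafData.support_pow_succ]; exact hx
  obtain ⟨z, rfl⟩ := Divis.CartierStalk.exists_subscheme_apply_eq (𝓘 ^ (n + 1)) hx'
  have hff : Module.Free ((𝓘 ^ (n + 1)).subscheme.presheaf.stalk z)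
      (((Scheme.Modules.pullback (𝓘 ^ (n + 1)).subschemeι).obj F).presheaf.stalk z) :=
    (Dcoh.StalkFF.FF_of_isFinLocFree (h n) z).1
  refine ⟨(𝓘 ^ (n + 1)).subscheme.presheaf.stalk z, inferInstance,
    Fdesc.PullbackStalk.stalkAlg (𝓘 ^ (n + 1)).subschemeι z,
    Divis.CartierStalk.stalkMap_subschemeι_surjective (𝓘 ^ (n + 1)) z, ?_, ?_⟩
  · refine (Divis.CartierStalk.ker_stalkMap_subschemeι (𝓘 ^ (n + 1)) z).le.trans ?_
    rw [Divis.CartierBasic.stalkIdeal_pow]
    exact Ideal.pow_right_mono ((Divis.CartierBasic.mem_support_iff_stalkIdeal_le 𝓘 _).1 hx) _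
  · let _ := Fdesc.PullbackStalk.stalkAlg (𝓘 ^ (n + 1)).subschemeι z
    exact Module.Free.of_equiv
      (Fdesc.PullbackStalk.stalkPullbackEquiv (𝓘 ^ (n + 1)).subschemeι F z).symm

/-- A coherent module on a locally Noetherian scheme is free near the points where its stalk is free. -/
theorem exists_free_nhd [IsLocallyNoetherian X] (F : X.Modules) (hF : Coh.IsCoh F) (x : X)
    (hfree : Module.Free (X.presheaf.stalk x) (F.presheaf.stalk x)) :
    ∃ (U : X.Opens) (n : ℕ), x ∈ U ∧ Nonempty (F.restrict U.ι ≅ FlatMod.freeMod (↑U) n) := by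
  obtain ⟨U, hU, hx, -⟩ := exists_isAffineOpen_mem_and_subset (x := x) (U := ⊤) trivial
  have hNoeth : IsNoetherianRing Γ(X, U) := IsLocallyNoetherian.component_noetherian ⟨U, hU⟩
  have hfin := Divis.StalkMod.finite_sections hF hU
  have hfp := Module.finitePresentation_of_finite Γ(X, U) Γ(F, U)
  have hq : F.IsQuasicoherent := hF.1
  have hmem : hU.primeIdealOf ⟨x, hx⟩ ∈ Module.freeLocus Γ(X, U) Γ(F, U) := by
    refine Divis.StalkMod.stalk_elim F hF.1 hU x hx ?_
    intro _ _ _ _ l _ _ _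
    rw [Module.mem_freeLocus_of_isLocalization _ (X.presheaf.stalk x) (F.presheaf.stalk x) l]
    exact hfree
  obtain ⟨V, hxV, -, e⟩ := Ega3B.LocFree.exists_restrict_iso_freeMod_of_mem_freeLocus F
    hU ⟨x, hx⟩ hmem
  exact ⟨V, _, hxV, e⟩

/-- A coherent module is finite locally free on a neighbourhood of any set of points where its stalks are free. -/
theorem exists_nhd_of_free_stalk [IsLocallyNoetherian X] (F : X.Modules) (hF : Coh.IsCoh F)
    (S : Set X) (h : ∀ x ∈ S, Module.Free (X.presheaf.stalk x) (F.presheaf.stalk x)) :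
    ∃ U : X.Opens, S ⊆ (U : Set X) ∧ FlatMod.IsFinLocFree (F.restrict U.ι) := by
  choose W n hxW hW using fun x : S => exists_free_nhd F hF x.1 (h x.1 x.2)
  refine ⟨⨆ x : S, W x, fun x hx => ?_, ?_⟩
  · exact TopologicalSpace.Opens.mem_iSup.2 ⟨⟨x, hx⟩, hxW ⟨x, hx⟩⟩
  · rw [Dcoh.FinLocFree.isFinLocFree_iff]
    rintro ⟨y, hy⟩
    obtain ⟨x, hyx⟩ := TopologicalSpace.Opens.mem_iSup.1 hy
    have hle : W x ≤ ⨆ x : S, W x := le_iSup W x
    refine ⟨W x, X.homOfLE hle, inferInstance, n x, ?_, ?_⟩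
    · have h1 : (⨆ x : S, W x).ι (X.homOfLE hle ⟨y, hyx⟩) = (⨆ x : S, W x).ι ⟨y, hy⟩ := by
        rw [← Scheme.Hom.comp_apply, Scheme.homOfLE_ι]
        rfl
      exact ⟨⟨y, hyx⟩, (⨆ x : S, W x).ι.isOpenEmbedding.injective h1⟩
    · obtain ⟨e⟩ := hW x
      exact ⟨(Dcoh.FinLocFree.restrictTrans F hle).symm ≪≫ e⟩

end Groth.Agent.Sga2lef.H81.LocFree
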